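import Mathlib

set_option autoImplicit false
universe u v

open TensorProduct

namespace Groth.Agent.H5.FlatUnr

section
variable (A B : Type u) [CommRing A] [CommRing B] [Algebra A B]
variable (M : Type v) [AddCommGroup M] [Module A M] [Module B M] [IsScalarTower A B M]
variable (N : Type u) [AddCommGroup N] [Module A N] [Module B N] [IsScalarTower A B N]

/-- `x ⊗ y ↦ x m ⊗ y n`. -/
noncomputable def ev (m : M) (n : N) : B ⊗[A] B →ₗ[A] M ⊗[A] N :=
  TensorProduct.map ((LinearMap.toSpanSingleton B M m).restrictScalars A)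
    ((LinearMap.toSpanSingleton B N n).restrictScalars A)

@[simp] lemma ev_tmul (m : M) (n : N) (x y : B) :
    ev A B M N m n (x ⊗ₜ y) = (x • m) ⊗ₜ (y • n) := rfl

lemma ev_smul_left (b : B) (m : M) (n : N) (c : B ⊗[A] B) :
    ev A B M N (b • m) n c = ev A B M N m n ((b ⊗ₜ 1) * c) := by
  induction c with
  | zero => simp
  | add x y hx hy => rw [map_add, hx, hy, mul_add, map_add]
  | tmul x y =>
    rw [Algebra.TensorProduct.tmul_mul_tmul, ev_tmul, ev_tmul, one_mul, smul_smul, mul_comm]

lemma ev_smul_right (b : B) (m : M) (n : N) (c : B ⊗[A] B) :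
    ev A B M N m (b • n) c = ev A B M N m n ((1 ⊗ₜ b) * c) := by
  induction c with
  | zero => simp
  | add x y hx hy => rw [map_add, hx, hy, mul_add, map_add]
  | tmul x y =>
    rw [Algebra.TensorProduct.tmul_mul_tmul, ev_tmul, ev_tmul, one_mul, smul_smul, mul_comm]

lemma ev_add_left (m m' : M) (n : N) (c : B ⊗[A] B) :
    ev A B M N (m + m') n c = ev A B M N m n c + ev A B M N m' n c := by
  induction c with
  | zero => simp
  | add x y hx hy => rw [map_add, hx, hy, map_add, map_add]; abel
  | tmul x y => simp [smul_add, add_tmul]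

lemma ev_add_right (m : M) (n n' : N) (c : B ⊗[A] B) :
    ev A B M N m (n + n') c = ev A B M N m n c + ev A B M N m n' c := by
  induction c with
  | zero => simp
  | add x y hx hy => rw [map_add, hx, hy, map_add, map_add]; abel
  | tmul x y => simp [smul_add, tmul_add]

/-- The section `M ⊗[B] N → M ⊗[A] N` defined by a separability element `t`. -/
noncomputable def sec (t : B ⊗[A] B) (ht : ∀ s : B, ((1 : B) ⊗ₜ[A] s - s ⊗ₜ[A] (1 : B)) * t = 0) :
    M ⊗[B] N →+ M ⊗[A] N :=
  TensorProduct.liftAddHom
    (AddMonoidHom.mk' (fun m => AddMonoidHom.mk' (fun n => ev A B M N m n t)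
      (fun n n' => ev_add_right A B M N m n n' t))
      (fun m m' => by ext n; exact ev_add_left A B M N m m' n t))
    (fun b m n => by
      change ev A B M N (b • m) n t = ev A B M N m (b • n) t
      rw [ev_smul_left, ev_smul_right]
      have := ht b
      rw [sub_mul, sub_eq_zero] at this
      rw [this])

@[simp] lemma sec_tmul (t : B ⊗[A] B)
    (ht : ∀ s : B, ((1 : B) ⊗ₜ[A] s - s ⊗ₜ[A] (1 : B)) * t = 0) (m : M) (n : N) :
    sec A B M N t ht (m ⊗ₜ n) = ev A B M N m n t := rfl

end

end Groth.Agent.H5.FlatUnr
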