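import Mathlib
import Groth.Agent.Lib.Helper5.FlatUnr.A

set_option autoImplicit false
universe u v

open TensorProduct

namespace Groth.Agent.H5.FlatUnr

section
variable (A B : Type u) [CommRing A] [CommRing B] [Algebra A B]
variable (M : Type v) [AddCommGroup M] [Module A M] [Module B M] [IsScalarTower A B M]
variable (N : Type u) [AddCommGroup N] [Module A N] [Module B N] [IsScalarTower A B N]

/-- The projection `M ⊗[A] N → M ⊗[B] N`. -/
noncomputable def prj : M ⊗[A] N →ₗ[A] M ⊗[B] N :=
  TensorProduct.mapOfCompatibleSMul B A A M N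

@[simp] lemma prj_tmul (m : M) (n : N) : prj A B M N (m ⊗ₜ n) = m ⊗ₜ n := rfl

lemma prj_ev (m : M) (n : N) (c : B ⊗[A] B) :
    prj A B M N (ev A B M N m n c) = (Algebra.TensorProduct.lmul' A c : B) • (m ⊗ₜ[B] n) := by
  induction c with
  | zero => simp
  | add x y hx hy => rw [map_add, map_add, hx, hy, map_add, add_smul]
  | tmul x y =>
    rw [ev_tmul, prj_tmul, Algebra.TensorProduct.lmul'_apply_tmul, ← smul_tmul, smul_tmul', smul_smul,
      mul_comm]

lemma prj_sec (t : B ⊗[A] B)
    (ht : ∀ s : B, ((1 : B) ⊗ₜ[A] s - s ⊗ₜ[A] (1 : B)) * t = 0)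
    (ht1 : Algebra.TensorProduct.lmul' A t = 1) (x : M ⊗[B] N) :
    prj A B M N (sec A B M N t ht x) = x := by
  induction x with
  | zero => simp
  | add x y hx hy => rw [map_add, map_add, hx, hy]
  | tmul m n => rw [sec_tmul, prj_ev, ht1, one_smul]

variable (N' : Type u) [AddCommGroup N'] [Module A N'] [Module B N'] [IsScalarTower A B N']

lemma lTensor_ev (f : N' →ₗ[B] N) (m : M) (n : N') (c : B ⊗[A] B) :
    (f.restrictScalars A).lTensor M (ev A B M N' m n c) = ev A B M N m (f n) c := by
  induction c with
  | zero => simp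
  | add x y hx hy => rw [map_add, map_add, hx, hy, map_add]
  | tmul x y => simp

lemma lTensor_sec (t : B ⊗[A] B)
    (ht : ∀ s : B, ((1 : B) ⊗ₜ[A] s - s ⊗ₜ[A] (1 : B)) * t = 0) (f : N' →ₗ[B] N)
    (x : M ⊗[B] N') :
    (f.restrictScalars A).lTensor M (sec A B M N' t ht x) = sec A B M N t ht (f.lTensor M x) := by
  induction x with
  | zero => simp
  | add x y hx hy => rw [map_add, map_add, hx, hy, map_add, map_add]
  | tmul m n => rw [sec_tmul, lTensor_ev, LinearMap.lTensor_tmul, sec_tmul]

end

/-- Flatness descends along an essentially finite type, formally unramified extension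
(in fact this shows `Flat A M → Flat B M` for any `B`-module `M`). -/
theorem flat_of_flat (A B : Type u) [CommRing A] [CommRing B] [Algebra A B]
    [Algebra.EssFiniteType A B] [Algebra.FormallyUnramified A B]
    (M : Type v) [AddCommGroup M] [Module A M] [Module B M] [IsScalarTower A B M]
    [Module.Flat A M] : Module.Flat B M := by
  obtain ⟨t, ht, ht1⟩ := Algebra.FormallyUnramified.iff_exists_tensorProduct.mp
    (inferInstance : Algebra.FormallyUnramified A B)
  refine (Module.Flat.iff_lTensor_preserves_injective_linearMapₛ.{u, u, v}).mpr ?_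
  intro N' N _ _ _ _ f hf
  letI : AddCommGroup N' := Module.addCommMonoidToAddCommGroup B
  letI : AddCommGroup N := Module.addCommMonoidToAddCommGroup B
  letI : Module A N' := Module.compHom N' (algebraMap A B)
  letI : Module A N := Module.compHom N (algebraMap A B)
  haveI : IsScalarTower A B N' := IsScalarTower.of_compHom A B N'
  haveI : IsScalarTower A B N := IsScalarTower.of_compHom A B N
  rw [injective_iff_map_eq_zero]
  intro x hx
  have h1 : (f.restrictScalars A).lTensor M (sec A B M N' t ht x) = 0 := by
    rw [lTensor_sec, hx, map_zero]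
  have hinj : Function.Injective ((f.restrictScalars A).lTensor M) :=
    Module.Flat.lTensor_preserves_injective_linearMap _ hf
  have h2 : sec A B M N' t ht x = 0 := hinj (by rw [h1, map_zero])
  rw [← prj_sec A B M N' t ht ht1 x, h2, map_zero]

end Groth.Agent.H5.FlatUnr
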